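import Cfsg.Agent.H663.Hol.Defs

/-!
# The holomorph of the cyclic group of order eight: abstract part
-/

set_option autoImplicit false

namespace Cfsg.Agent.H813.Hol

open Subgroup

variable {G : Type*} [Group G]

/-- extension of a subgroup by an element normalizing it whose square lies in it -/
def dbl (K : Subgroup G) (x : G) (hn : ∀ k ∈ K, x * k * x⁻¹ ∈ K) (hx : x * x ∈ K) : Subgroup G where
  carrier := {y | y ∈ K ∨ y * x⁻¹ ∈ K}
  one_mem' := Or.inl K.one_mem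
  mul_mem' := by
    rintro y z (hy | hy) (hz | hz)
    · exact Or.inl (K.mul_mem hy hz)
    · refine Or.inr ?_
      rw [mul_assoc]
      exact K.mul_mem hy hz
    · refine Or.inr ?_
      have := K.mul_mem hy (hn z hz)
      rwa [show y * x⁻¹ * (x * z * x⁻¹) = y * z * x⁻¹ by group] at this
    · refine Or.inl ?_
      have := K.mul_mem (K.mul_mem hy (hn _ hz)) hx
      rwa [show y * x⁻¹ * (x * (z * x⁻¹) * x⁻¹) * (x * x) = y * z by group] at this
  inv_mem' := by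
    rintro y (hy | hy)
    · exact Or.inl (K.inv_mem hy)
    · refine Or.inr ?_
      have := K.inv_mem (K.mul_mem (hn _ hy) hx)
      rwa [show (x * (y * x⁻¹) * x⁻¹ * (x * x))⁻¹ = y⁻¹ * x⁻¹ by group] at this

theorem mem_sup {K : Subgroup G} {x : G} (hn : ∀ k ∈ K, x * k * x⁻¹ ∈ K) (hx : x * x ∈ K) {y : G}
    (hy : y ∈ K ⊔ zpowers x) : y ∈ K ∨ y * x⁻¹ ∈ K := by
  have h : K ⊔ zpowers x ≤ dbl K x hn hx := by
    apply sup_le
    · intro k hk
      exact Or.inl hk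
    · rw [zpowers_le]
      refine Or.inr ?_
      rw [mul_inv_cancel]
      exact K.one_mem
  exact h hy

theorem card_sup {K : Subgroup G} {x : G} (hn : ∀ k ∈ K, x * k * x⁻¹ ∈ K) (hx : x * x ∈ K) (hxK : x ∉ K) :
    Nat.card (K ⊔ zpowers x : Subgroup G) = Nat.card K * 2 := by
  have hle : K ≤ K ⊔ zpowers x := le_sup_left
  have h2 : K.relIndex (K ⊔ zpowers x) = 2 := by
    rw [Subgroup.relIndex_eq_two_iff]
    refine ⟨x⁻¹, (K ⊔ zpowers x).inv_mem ((le_sup_right : zpowers x ≤ K ⊔ zpowers x) (mem_zpowers x)),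
      fun b hb => ?_⟩
    rcases mem_sup hn hx hb with h | h
    · refine Or.inr ⟨h, fun h' => hxK ?_⟩
      have := K.mul_mem (K.inv_mem h) h'
      rw [inv_mul_cancel_left] at this
      simpa using K.inv_mem this
    · refine Or.inl ⟨h, fun h' => hxK ?_⟩
      have := K.mul_mem (K.inv_mem h) h'
      simpa using this
  have h3 := Subgroup.relIndex_mul_relIndex ⊥ K (K ⊔ zpowers x) bot_le hle
  rw [h2, relIndex_bot_left, relIndex_bot_left] at h3
  exact h3.symm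

variable {r w d : G}

theorem mem_zp {x y k : G} (m : ℤ) (hx : y * x * y⁻¹ = x ^ m) (hk : k ∈ zpowers x) : y * k * y⁻¹ ∈ zpowers x := by
  obtain ⟨n, rfl⟩ := mem_zpowers_iff.1 hk
  rw [← conj_zpow, hx, ← zpow_mul]
  exact zpow_mem (mem_zpowers x) _

/-- the order of the group generated by `r`, `w`, `d` -/
theorem card_of (ho : orderOf r = 8) (hw : w ^ 2 = 1) (hd : d ^ 2 = 1) (hwr : w * r * w⁻¹ = r⁻¹)
    (hdr : d * r * d⁻¹ = r ^ 5) (hwd : w * d = d * w) :
    Nat.card (Subgroup.closure ({r, w, d} : Set G)) = 32 := by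
  have h8 : ∀ n : ℕ, 0 < n → n < 8 → r ^ n ≠ 1 := by
    intro n h1 h2 h3
    have := orderOf_dvd_of_pow_eq_one h3
    rw [ho] at this
    exact absurd (Nat.le_of_dvd h1 this) (by omega)
  have hwr' : ∀ k ∈ zpowers r, w * k * w⁻¹ ∈ zpowers r :=
    fun k hk => mem_zp (-1) (by rw [hwr, zpow_neg_one]) hk
  have hdr' : ∀ k ∈ zpowers r, d * k * d⁻¹ ∈ zpowers r :=
    fun k hk => mem_zp 5 (by rw [hdr]; norm_cast) hk
  have hww : w * w ∈ zpowers r := by rw [← sq, hw]; exact one_mem _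
  have hw1 : w ∉ zpowers r := by
    intro h
    obtain ⟨n, hn⟩ := mem_zpowers_iff.1 h
    have h1 : w * r * w⁻¹ = r := by rw [← hn]; group
    rw [hwr] at h1
    apply h8 2 (by omega) (by omega)
    rw [sq]
    nth_rewrite 1 [← h1]
    group
  have c1 : Nat.card (zpowers r) = 8 := by rw [Nat.card_zpowers, ho]
  have c2 := card_sup hwr' hww hw1
  have hdK : ∀ k ∈ zpowers r ⊔ zpowers w, d * k * d⁻¹ ∈ zpowers r ⊔ zpowers w := by
    intro k hk
    have hw' : w ∈ zpowers r ⊔ zpowers w := (le_sup_right : zpowers w ≤ zpowers r ⊔ zpowers w) (mem_zpowers w)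
    rcases mem_sup hwr' hww hk with h | h
    · exact (le_sup_left : zpowers r ≤ zpowers r ⊔ zpowers w) (hdr' k h)
    · have h1 := (le_sup_left : zpowers r ≤ zpowers r ⊔ zpowers w) (hdr' _ h)
      have h2 := (zpowers r ⊔ zpowers w).mul_mem h1 hw'
      have h3 : d * w * d⁻¹ = w := by rw [← hwd]; group
      rwa [show d * (k * w⁻¹) * d⁻¹ * w = d * k * d⁻¹ by
        calc d * (k * w⁻¹) * d⁻¹ * w = d * (k * w⁻¹) * d⁻¹ * (d * w * d⁻¹) := by rw [h3]
          _ = d * k * d⁻¹ := by group] at h2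
  have hdd : d * d ∈ zpowers r ⊔ zpowers w := by rw [← sq, hd]; exact one_mem _
  have hd1 : d ∉ zpowers r ⊔ zpowers w := by
    intro h
    rcases mem_sup hwr' hww h with h | h
    · obtain ⟨n, hn⟩ := mem_zpowers_iff.1 h
      have h1 : d * r * d⁻¹ = r := by rw [← hn]; group
      rw [hdr] at h1
      apply h8 4 (by omega) (by omega)
      have : r ^ 5 = r ^ 4 * r := pow_succ r 4
      rw [this] at h1
      simpa using h1
    · obtain ⟨n, hn⟩ := mem_zpowers_iff.1 h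
      have h0 : d = r ^ n * w := by rw [hn]; group
      have h1 : d * r * d⁻¹ = r⁻¹ := by
        calc d * r * d⁻¹ = r ^ n * (w * r * w⁻¹) * (r ^ n)⁻¹ := by rw [h0]; group
          _ = r⁻¹ := by rw [hwr]; group
      rw [hdr] at h1
      apply h8 6 (by omega) (by omega)
      rw [pow_succ, h1, inv_mul_cancel]
  have c3 := card_sup hdK hdd hd1
  have hcl : Subgroup.closure ({r, w, d} : Set G) = zpowers r ⊔ zpowers w ⊔ zpowers d := by
    have : ({r, w, d} : Set G) = {r} ∪ {w} ∪ {d} := by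
      ext x; simp only [Set.mem_insert_iff, Set.mem_singleton_iff, Set.mem_union]; tauto
    rw [this, Subgroup.closure_union, Subgroup.closure_union, ← zpowers_eq_closure, ← zpowers_eq_closure,
      ← zpowers_eq_closure]
  rw [hcl, c3, c2, c1]

/-- no element induces an automorphism of order three on `⟨r², rw, d⟩` -/
theorem noThree (h : H663.Hol.Rel r w d) {N : Subgroup G} [N.Normal] (h4 : N.index = 4)
    (hr : r ^ 2 ∈ N) (h1 : r * w ∉ N) (h2 : d ∉ N) (h3 : r * w * d ∉ N) : H663.Hol.NoThree r w d := by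
  have ho := h.or
  have h8 : r ^ 8 = 1 := by rw [← ho]; exact pow_orderOf_eq_one r
  have hr4 : r ^ 4 ≠ 1 := by
    intro h3
    have := orderOf_dvd_of_pow_eq_one h3
    rw [ho] at this
    exact absurd this (by decide)
  have hwr := h.wr
  have hdr := h.dr
  have hww := h.ww
  have hdd := h.dd
  have hwd := h.wd
  -- the structure of the group
  have hZN : zpowers (r ^ 2) ≤ N := by rw [zpowers_le]; exact hr
  have e1 : (r * w) * r ^ 2 * (r * w)⁻¹ = (r ^ 2) ^ (-1 : ℤ) := by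
    calc (r * w) * r ^ 2 * (r * w)⁻¹ = r * (w * r * w⁻¹) * (w * r * w⁻¹) * r⁻¹ := by rw [sq]; group
      _ = (r ^ 2) ^ (-1 : ℤ) := by rw [hwr]; group
  have e2 : d * r ^ 2 * d⁻¹ = r ^ 2 := by
    calc d * r ^ 2 * d⁻¹ = (d * r * d⁻¹) * (d * r * d⁻¹) := by rw [sq]; group
      _ = r ^ 8 * r ^ 2 := by rw [hdr]; group
      _ = r ^ 2 := by rw [h8, one_mul]
  have k1 : ∀ k ∈ zpowers (r ^ 2), (r * w) * k * (r * w)⁻¹ ∈ zpowers (r ^ 2) := fun k hk => mem_zp (-1) e1 hk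
  have k2 : (r * w) * (r * w) ∈ zpowers (r ^ 2) := by
    have : (r * w) * (r * w) = 1 := by
      calc (r * w) * (r * w) = r * (w * r * w⁻¹) * (w ^ 2) := by group
        _ = 1 := by rw [hwr, hww]; group
    rw [this]; exact one_mem _
  have k3 : ∀ k ∈ zpowers (r ^ 2) ⊔ zpowers (r * w), d * k * d⁻¹ ∈ zpowers (r ^ 2) ⊔ zpowers (r * w) := by
    intro k hk
    have hz : ∀ k ∈ zpowers (r ^ 2), d * k * d⁻¹ ∈ zpowers (r ^ 2) := fun k hk => mem_zp 1 (by rw [e2, zpow_one]) hk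
    have hle : zpowers (r ^ 2) ≤ zpowers (r ^ 2) ⊔ zpowers (r * w) := le_sup_left
    have hw' : r * w ∈ zpowers (r ^ 2) ⊔ zpowers (r * w) :=
      (le_sup_right : zpowers (r * w) ≤ zpowers (r ^ 2) ⊔ zpowers (r * w)) (mem_zpowers _)
    rcases mem_sup k1 k2 hk with h | h
    · exact hle (hz k h)
    · have a1 := hle (hz _ h)
      have a2 : d * (r * w) * d⁻¹ = (r ^ 2) ^ 2 * (r * w) := by
        calc d * (r * w) * d⁻¹ = (d * r * d⁻¹) * ((d * w) * d⁻¹) := by group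
          _ = (r ^ 2) ^ 2 * (r * w) := by rw [hdr, ← hwd]; group
      have a3 : d * (r * w) * d⁻¹ ∈ zpowers (r ^ 2) ⊔ zpowers (r * w) := by
        rw [a2]
        exact mul_mem (hle (pow_mem (mem_zpowers _) 2)) hw'
      have a4 := mul_mem a1 a3
      rwa [show d * (k * (r * w)⁻¹) * d⁻¹ * (d * (r * w) * d⁻¹) = d * k * d⁻¹ by group] at a4
  have k4 : d * d ∈ zpowers (r ^ 2) ⊔ zpowers (r * w) := by rw [← sq, hdd]; exact one_mem _
  have hRR : H663.Hol.RR r w d = zpowers (r ^ 2) ⊔ zpowers (r * w) ⊔ zpowers d := by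
    have : ({r ^ 2, r * w, d} : Set G) = {r ^ 2} ∪ {r * w} ∪ {d} := by
      ext x; simp only [Set.mem_insert_iff, Set.mem_singleton_iff, Set.mem_union]; tauto
    rw [H663.Hol.RR, this, Subgroup.closure_union, Subgroup.closure_union, ← zpowers_eq_closure,
      ← zpowers_eq_closure, ← zpowers_eq_closure]
  have hmem : ∀ x ∈ H663.Hol.RR r w d, x ∈ N → x ∈ zpowers (r ^ 2) := by
    intro x hx hxN
    rw [hRR] at hx
    rcases mem_sup k3 k4 hx with hx | hx
    · rcases mem_sup k1 k2 hx with hx | hx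
      · exact hx
      · exfalso
        apply h1
        have := N.mul_mem (N.inv_mem (hZN hx)) hxN
        rwa [show (x * (r * w)⁻¹)⁻¹ * x = r * w by group] at this
    · rcases mem_sup k1 k2 hx with hx | hx
      · exfalso
        apply h2
        have := N.mul_mem (N.inv_mem (hZN hx)) hxN
        rwa [show (x * d⁻¹)⁻¹ * x = d by group] at this
      · exfalso
        apply h3
        have := N.mul_mem (N.inv_mem (hZN hx)) hxN
        rwa [show (x * d⁻¹ * (r * w)⁻¹)⁻¹ * x = r * w * d by group] at this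
  have hZR : zpowers (r ^ 2) ≤ H663.Hol.RR r w d := by
    rw [hRR]
    exact le_sup_left.trans le_sup_left
  have hZ4 : ∀ z ∈ zpowers (r ^ 2), z ^ 4 = 1 := by
    intro z hz
    obtain ⟨n, rfl⟩ := mem_zpowers_iff.1 hz
    calc ((r ^ 2) ^ n) ^ 4 = (r ^ 8) ^ n := by group
      _ = 1 := by rw [h8, one_zpow]
  intro g hg hg3
  have hG4 : g ^ 4 ∈ N := by rw [← h4]; exact pow_index_mem N g
  obtain ⟨a, ha⟩ : ∃ a, a = g ^ 4 := ⟨_, rfl⟩
  rw [← ha] at hG4
  have hact : ∀ x ∈ H663.Hol.RR r w d, a * x * a⁻¹ = g * x * g⁻¹ := by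
    intro x hx
    calc a * x * a⁻¹ = g * (g ^ 3 * x * (g ^ 3)⁻¹) * g⁻¹ := by rw [ha]; group
      _ = g * x * g⁻¹ := by rw [hg3 x hx]
  have haR : ∀ x ∈ H663.Hol.RR r w d, a * x * a⁻¹ ∈ H663.Hol.RR r w d := by
    intro x hx
    rw [hact x hx]; exact hg x hx
  have h3' : ∀ x ∈ H663.Hol.RR r w d, a * (a * (a * x * a⁻¹) * a⁻¹) * a⁻¹ = x := by
    intro x hx
    rw [hact _ (haR _ (haR x hx)), hact _ (haR x hx), hact x hx]
    have := hg3 x hx
    rw [← this]
    rw [this]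
    calc g * (g * (g * x * g⁻¹) * g⁻¹) * g⁻¹ = g ^ 3 * x * (g ^ 3)⁻¹ := by
          rw [pow_succ, sq]; group
      _ = x := hg3 x hx
  -- `a` centralizes `r ^ 2`
  have hrR : r ^ 2 ∈ H663.Hol.RR r w d := hZR (mem_zpowers _)
  have ha2 : a * r ^ 2 * a⁻¹ = r ^ 2 := by
    have b1 : a * r ^ 2 * a⁻¹ ∈ zpowers (r ^ 2) :=
      hmem _ (haR _ hrR) (N.mul_mem (N.mul_mem hG4 hr) (N.inv_mem hG4))
    obtain ⟨n, hn⟩ := mem_zpowers_iff.1 b1
    have hfour : (r ^ 2) ^ (4 : ℤ) = 1 := by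
      calc (r ^ 2) ^ (4 : ℤ) = r ^ 8 := by group
        _ = 1 := h8
    have hsq : ∀ m : ℤ, (r ^ 2) ^ (4 * m) = 1 := fun m => by rw [zpow_mul, hfour, one_zpow]
    have h0 : ∀ m : ℤ, (a * r ^ 2 * a⁻¹) ^ m = a * (r ^ 2) ^ m * a⁻¹ := fun m => conj_zpow
    rcases Int.even_or_odd' n with ⟨m, hm | hm⟩
    · exfalso
      apply hr4
      have b2 : (a * r ^ 2 * a⁻¹) ^ (2 : ℤ) = 1 := by
        rw [← hn, hm, ← zpow_mul, show 2 * m * 2 = 4 * m by ring, hsq]
      rw [h0] at b2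
      have b3 : (r ^ 2) ^ (2 : ℤ) = 1 := by
        calc (r ^ 2) ^ (2 : ℤ) = a⁻¹ * (a * (r ^ 2) ^ (2 : ℤ) * a⁻¹) * a := by group
          _ = 1 := by rw [b2]; group
      calc r ^ 4 = (r ^ 2) ^ (2 : ℤ) := by group
        _ = 1 := b3
    · rcases Int.even_or_odd' m with ⟨l, hl | hl⟩
      · rw [← hn, hm, hl, zpow_add, show 2 * (2 * l) = 4 * l by ring, hsq, one_mul, zpow_one]
      · exfalso
        have b2 : a * r ^ 2 * a⁻¹ = (r ^ 2)⁻¹ := by
          rw [← hn, hm, hl, show 2 * (2 * l + 1) + 1 = 4 * (l + 1) + (-1) by ring, zpow_add, hsq, one_mul,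
            zpow_neg_one]
        have b3 := h3' _ hrR
        have b4 : a * (r ^ 2)⁻¹ * a⁻¹ = r ^ 2 := by
          calc a * (r ^ 2)⁻¹ * a⁻¹ = (a * r ^ 2 * a⁻¹)⁻¹ := by group
            _ = r ^ 2 := by rw [b2, inv_inv]
        rw [b2, b4, b2] at b3
        apply hr4
        calc r ^ 4 = r ^ 2 * r ^ 2 := by group
          _ = 1 := by nth_rewrite 1 [← b3]; group
  have haZ : ∀ z ∈ zpowers (r ^ 2), a * z * a⁻¹ = z := by
    intro z hz
    obtain ⟨n, rfl⟩ := mem_zpowers_iff.1 hz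
    rw [← conj_zpow, ha2]
  intro x hx
  rw [← hact x hx]
  have c1 : a * x * a⁻¹ * x⁻¹ ∈ zpowers (r ^ 2) := by
    apply hmem
    · exact mul_mem (haR x hx) (inv_mem hx)
    · have : x * a⁻¹ * x⁻¹ ∈ N := Normal.conj_mem inferInstance _ (N.inv_mem hG4) x
      have := N.mul_mem hG4 this
      rwa [show a * (x * a⁻¹ * x⁻¹) = a * x * a⁻¹ * x⁻¹ by group] at this
  obtain ⟨c, hc⟩ : ∃ c, c = a * x * a⁻¹ * x⁻¹ := ⟨_, rfl⟩
  rw [← hc] at c1
  have c2 : a * x * a⁻¹ = c * x := by rw [hc]; group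
  have c3 := h3' x hx
  have c4 : a * (c * x) * a⁻¹ = c * (c * x) := by
    calc a * (c * x) * a⁻¹ = (a * c * a⁻¹) * (a * x * a⁻¹) := by group
      _ = c * (c * x) := by rw [haZ c c1, c2]
  have c5 : a * (c * (c * x)) * a⁻¹ = c * (c * (c * x)) := by
    calc a * (c * (c * x)) * a⁻¹ = (a * c * a⁻¹) * (a * (c * x) * a⁻¹) := by group
      _ = c * (c * (c * x)) := by rw [haZ c c1, c4]
  rw [c2, c4, c5] at c3
  have c6 : c ^ 3 = 1 := by
    calc c ^ 3 = c * (c * (c * x)) * x⁻¹ := by rw [pow_succ, sq]; group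
      _ = 1 := by rw [c3, mul_inv_cancel]
  have c7 := hZ4 c c1
  have c8 : c = 1 := by
    rw [pow_succ, c6, one_mul] at c7
    exact c7
  rw [c2, c8, one_mul]

end Cfsg.Agent.H813.Hol
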