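import Cfsg.Agent.StdAlt.Six.Theta
import Cfsg.Agent.StdAlt.Six.Act
import Cfsg.Agent.H813.Hol.Abs

/-!
# `Aut(A₆)` contains the holomorph of the cyclic group of order eight

`grpA` : task 3209 of helper663 for S5175.
-/

set_option autoImplicit false

namespace Cfsg.Agent.H813.Hol

open Equiv Equiv.Perm Subgroup
open Cfsg.Agent.StdAlt Cfsg.Agent.StdAlt.Six
open Cfsg.Agent.StdAlt.PermTypes (cyc)

/-- the cycles `(i 4 5)` -/
def cp (i : Fin 6) : Perm (Fin 6) := if i = 4 ∨ i = 5 then 1 else cyc i 4 5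

/-- index tables -/
def p1 : Fin 6 → Fin 6 := ![1, 0, 3, 2, 4, 4]
/-- index tables -/
def p2 : Fin 6 → Fin 6 := ![2, 1, 0, 3, 4, 4]
/-- index tables -/
def p3 : Fin 6 → Fin 6 := ![0, 3, 2, 1, 4, 4]
/-- index tables -/
def p4 : Fin 6 → Fin 6 := ![3, 2, 1, 0, 4, 4]
/-- index tables -/
def q1 : Fin 6 → Fin 6 := ![0, 1, 2, 3, 4, 4]
/-- index tables -/
def q2 : Fin 6 → Fin 6 := ![3, 0, 1, 2, 4, 4]
/-- index tables -/
def q3 : Fin 6 → Fin 6 := ![1, 2, 3, 0, 4, 4]
/-- index tables -/
def q4 : Fin 6 → Fin 6 := ![2, 3, 0, 1, 4, 4]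

/-- the images of the cycles under the automorphism of order eight -/
def yp (i : Fin 6) : Perm (Fin 6) := cp (p1 i) * cp (p2 i) * cp (p3 i) * cp (p4 i)

/-- the square of the automorphism of order eight -/
def t : Perm (Fin 6) := cyc 0 1 2 * swap 2 3 * swap 4 5
/-- its fourth power -/
def s : Perm (Fin 6) := swap 0 2 * swap 1 3
/-- an involution -/
def w0 : Perm (Fin 6) := swap 0 1 * swap 2 3
/-- a transposition -/
def d0 : Perm (Fin 6) := swap 4 5
/-- an element of order three -/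
def a0 : Perm (Fin 6) := cyc 1 3 2

theorem cp_even : ∀ i, Perm.sign (cp i) = 1 := by decide +kernel
theorem yp_even : ∀ i, Perm.sign (yp i) = 1 := by decide +kernel
theorem yp_cube : ∀ i, yp i ^ 3 = 1 := by decide +kernel
theorem yp_sq : ∀ i j : Fin 6, (i ≠ 4 ∧ i ≠ 5) → (j ≠ 4 ∧ j ≠ 5) → i ≠ j → (yp i * yp j) ^ 2 = 1 := by
  decide +kernel
theorem t_sq : t * t = s := by decide +kernel
theorem s_sq : s * s = 1 := by decide +kernel
theorem s_ne : s ≠ 1 := by decide +kernel
theorem w0_sq : w0 * w0 = 1 := by decide +kernel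
theorem d0_sq' : d0 * d0 = 1 := by decide +kernel
theorem wd0 : w0 * d0 = d0 * w0 := by decide +kernel
theorem ad0 : a0 * d0 * a0⁻¹ = d0 := by decide +kernel
theorem as0 : a0 * s * a0⁻¹ = w0 := by decide +kernel
theorem aw0 : a0 * w0 * a0⁻¹ = s * w0 := by decide +kernel
theorem mv_cp : mv (cp 0) = 3 := by decide +kernel
theorem mv_yp : mv (yp 0) = 6 := by decide +kernel
theorem yp_ne : yp 0 ≠ 1 := by decide +kernel
theorem sq_word : ∀ i, yp (p1 i) * yp (p2 i) * yp (p3 i) * yp (p4 i) = t * cp i * t⁻¹ := by decide +kernel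
theorem w_word : ∀ i, w0⁻¹ * yp i * w0 = cp (q1 i) * cp (q2 i) * cp (q3 i) * cp (q4 i) := by decide +kernel
theorem w_word' : ∀ i, w0 * (yp (q1 i) * yp (q2 i) * yp (q3 i) * yp (q4 i)) * w0⁻¹ = cp i := by decide +kernel
theorem d_word : ∀ i, d0⁻¹ * cp i * d0 = (cp i)⁻¹ := by decide +kernel
theorem d_word' : ∀ i, d0 * (yp i)⁻¹ * d0⁻¹ = s * yp i * s⁻¹ := by decide +kernel
theorem d0_odd : Perm.sign d0 = -1 := by decide +kernel
theorem t_even : Perm.sign t = 1 := by decide +kernel

/-- the cycles in `A6` -/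
def C (i : Fin 6) : A6 := ⟨cp i, Equiv.Perm.mem_alternatingGroup.2 (cp_even i)⟩
/-- their images in `A6` -/
def Y (i : Fin 6) : A6 := ⟨yp i, Equiv.Perm.mem_alternatingGroup.2 (yp_even i)⟩

theorem Y_eq (i : Fin 6) : Y i = C (p1 i) * C (p2 i) * C (p3 i) * C (p4 i) := rfl

/-- automorphisms agreeing on the cycles agree -/
theorem ext_C {α β : MulAut A6} (h : ∀ i, α (C i) = β (C i)) : α = β := by
  have h1 : MonoidHom.eqLocus α.toMonoidHom β.toMonoidHom = ⊤ := by
    apply Carm.eq_top_of_cyc (c := (4 : Fin 6)) (d := 5) (by decide) (by simp)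
    intro σ i h4 h5 hσ
    have : σ = C i := by
      apply Subtype.ext
      rw [hσ]
      show cyc i 4 5 = cp i
      rw [cp, if_neg (by tauto)]
    rw [this]
    exact h i
  ext x : 1
  have : x ∈ MonoidHom.eqLocus α.toMonoidHom β.toMonoidHom := by rw [h1]; exact mem_top _
  exact this

theorem exists_r : ∃ r : MulAut A6, ∀ i, r (C i) = Y i := by
  obtain ⟨f, hf⟩ := Carm.exists_hom (c := (4 : Fin 6)) (d := 5) (y := Y) (by decide) (by simp)
    (fun i _ _ => Subtype.ext (yp_cube i))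
    (fun i j h1 h2 h3 h4 h5 => Subtype.ext (yp_sq i j ⟨h1, h2⟩ ⟨h3, h4⟩ h5))
  have h0 : ∀ i, f (C i) = Y i := by
    intro i
    by_cases hi : i = 4 ∨ i = 5
    · have h1 : C i = 1 := Subtype.ext (by show cp i = 1; rw [cp, if_pos hi])
      have h2 : Y i = 1 := by
        rcases hi with rfl | rfl <;> exact Subtype.ext (by show yp _ = 1; decide +kernel)
      rw [h1, h2, map_one]
    · push Not at hi
      exact hf (C i) i hi.1 hi.2 (by show cp i = _; rw [cp, if_neg (by tauto)])
  have hsimple : IsSimpleGroup A6 :=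
    alternatingGroup.isSimpleGroup (by rw [Nat.card_eq_fintype_card, Fintype.card_fin]; omega)
  have hinj : Function.Injective f := by
    rw [← MonoidHom.ker_eq_bot_iff]
    rcases (inferInstance : f.ker.Normal).eq_bot_or_eq_top with hb | ht
    · exact hb
    · exfalso
      have h1 : C 0 ∈ f.ker := by
        rw [ht]; exact mem_top _
      rw [MonoidHom.mem_ker, h0] at h1
      exact yp_ne (congrArg Subtype.val h1)
  exact ⟨MulEquiv.ofBijective f (Finite.injective_iff_bijective.1 hinj), h0⟩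

theorem card_aut : Nat.card (MulAut A6) = 1440 := by
  classical
  obtain ⟨θ, hθ⟩ := exists_theta
  have hmem : ∀ α : MulAut A6, α ∈ pc.range ↔ NS α := by
    intro α
    rw [ns_iff]
    constructor
    · rintro ⟨σ, h⟩; exact ⟨σ, h.symm⟩
    · rintro ⟨σ, h⟩; exact ⟨σ, h.symm⟩
  have h1 : pc.range.index = 2 := by
    rw [Subgroup.index_eq_two_iff]
    refine ⟨θ, fun b => ?_⟩
    rw [hmem, hmem]
    by_cases hb : NS b
    · exact Or.inr ⟨hb, not_ns_mul_left hb hθ⟩
    · exact Or.inl ⟨NS.mul_of_not hb hθ, hb⟩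
  have h2 : Nat.card pc.range = 720 := by
    have h3 : Function.Injective pc := fun _ _ h => pc_inj h
    rw [← Nat.card_congr (MonoidHom.ofInjective (f := pc) h3).toEquiv, Nat.card_perm,
      Nat.card_eq_fintype_card, Fintype.card_fin]
    rfl
  have h3 := Subgroup.card_mul_index pc.range
  rw [h1, h2] at h3
  exact h3.symm

theorem index_inn : (MulAut.conj (G := A6)).range.index = 4 := by
  have h1 : Nat.card (MulAut.conj (G := A6)).range = 360 := by
    have h3 : Function.Injective (MulAut.conj (G := A6)) := fun _ _ h => conj_inj h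
    rw [← Nat.card_congr (MonoidHom.ofInjective h3).toEquiv]
    have h := two_mul_nat_card_alternatingGroup (α := Fin 6)
    rw [Nat.card_perm, Nat.card_eq_fintype_card (α := Fin 6), Fintype.card_fin] at h
    have h6 : Nat.factorial 6 = 720 := rfl
    rw [h6] at h
    have h7 : 2 * Nat.card A6 = 720 := h
    omega
  have h3 := Subgroup.card_mul_index (MulAut.conj (G := A6)).range
  rw [h1, card_aut] at h3
  omega

theorem inn_normal : (MulAut.conj (G := A6)).range.Normal := by
  constructor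
  rintro _ ⟨x, rfl⟩ α
  refine ⟨α x, ?_⟩
  ext y : 1
  simp

theorem grpA : Cfsg.Agent.H663.Hol.StGrpA := by
  obtain ⟨r, hr⟩ := exists_r
  have hrw : ∀ i j k l : Fin 6, r (C i * C j * C k * C l) = Y i * Y j * Y k * Y l := by
    intro i j k l
    rw [map_mul, map_mul, map_mul, hr, hr, hr, hr]
  have hr2 : r * r = pc t := by
    apply ext_C
    intro i
    rw [MulAut.mul_apply, hr, Y_eq, hrw]
    apply Subtype.ext
    rw [pc_apply]
    exact sq_word i
  have hr4 : r ^ 4 = pc s := by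
    rw [← t_sq, map_mul, ← hr2]
    simp only [pow_succ, pow_zero, one_mul, mul_assoc]
  have hr8 : r ^ 8 = 1 := by
    have : r ^ 8 = r ^ 4 * r ^ 4 := by group
    rw [this, hr4, ← map_mul, s_sq, map_one]
  have hor : orderOf r = 8 := by
    have : orderOf r = 2 ^ (2 + 1) := by
      apply orderOf_eq_prime_pow
      · show ¬ r ^ 4 = 1
        rw [hr4]
        intro h
        exact s_ne (pc_inj (by rw [h, map_one]))
      · exact hr8
    rw [this]; norm_num
  have hwr : pc w0 * r * (pc w0)⁻¹ = r⁻¹ := by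
    rw [eq_inv_iff_mul_eq_one, ← map_inv]
    apply ext_C
    intro i
    rw [MulAut.mul_apply, MulAut.mul_apply, MulAut.mul_apply, MulAut.one_apply, hr]
    have h1 : (pc w0⁻¹) (Y i) = C (q1 i) * C (q2 i) * C (q3 i) * C (q4 i) := by
      apply Subtype.ext
      rw [pc_apply, inv_inv]
      exact w_word i
    rw [h1, hrw]
    apply Subtype.ext
    rw [pc_apply]
    exact w_word' i
  have hdr : pc d0 * r * (pc d0)⁻¹ = r ^ 5 := by
    rw [pow_succ, hr4, ← map_inv]
    apply ext_C
    intro i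
    rw [MulAut.mul_apply, MulAut.mul_apply, MulAut.mul_apply, hr]
    have h1 : (pc d0⁻¹) (C i) = (C i)⁻¹ := by
      apply Subtype.ext
      rw [pc_apply, inv_inv]
      exact d_word i
    rw [h1, map_inv, hr]
    apply Subtype.ext
    rw [pc_apply, pc_apply]
    exact d_word' i
  have hww : pc w0 ^ 2 = 1 := by rw [sq, ← map_mul, w0_sq, map_one]
  have hdd : pc d0 ^ 2 = 1 := by rw [sq, ← map_mul, d0_sq', map_one]
  have hwd : pc w0 * pc d0 = pc d0 * pc w0 := by rw [← map_mul, wd0, map_mul]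
  have hrel : Cfsg.Agent.H663.Hol.Rel r (pc w0) (pc d0) :=
    ⟨hor, hww, hdd, hwr, hdr, hwd, card_of hor hww hdd hwr hdr hwd⟩
  have hns : ¬ NS r := by
    rintro ⟨σ, hσ⟩
    have h1 := hσ (C 0)
    rw [hr] at h1
    have h2 : yp 0 = σ * cp 0 * σ⁻¹ := h1
    have h3 := mv_yp
    rw [h2, mv_conj, mv_cp] at h3
    exact absurd h3 (by decide)
  have hN : ∀ α : MulAut A6, α ∈ (MulAut.conj (G := A6)).range → NS α := by
    rintro _ ⟨x, rfl⟩
    exact NS.conj x
  refine ⟨r, pc w0, pc d0, pc a0, ⟨hrel, ?_, ?_, ?_, ⟨45, by decide, card_aut⟩⟩, ?_⟩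
  · rw [← map_mul, ← map_inv, ← map_mul, ad0]
  · rw [hr4, ← map_mul, ← map_inv, ← map_mul, as0]
  · rw [hr4, ← map_mul, ← map_mul, ← map_inv, ← map_mul, aw0]
  · have hn := inn_normal
    refine noThree hrel (N := (MulAut.conj (G := A6)).range) index_inn ?_ ?_ ?_ ?_
    · refine ⟨⟨t, Equiv.Perm.mem_alternatingGroup.2 t_even⟩, ?_⟩
      rw [← pc_val, sq, hr2]
    · intro h
      exact not_ns_mul_right hns (ns_pc w0) (hN _ h)
    · rintro ⟨x, hx⟩
      rw [← pc_val] at hx
      have h1 := sign_val x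
      rw [pc_inj hx, d0_odd] at h1
      exact absurd h1 (by decide)
    · intro h
      exact not_ns_mul_right (not_ns_mul_right hns (ns_pc w0)) (ns_pc d0) (hN _ h)

end Cfsg.Agent.H813.Hol
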